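/-
Derived subgroups of fixed points of an elementary abelian group of order `q ^ 3` acting coprimely
(helper8).

* `card_lcs_one_le` : layer bound for the derived subgroup of a nilpotent group
* `relIndex_centralizer_le` : the index of `C_P(x)` in an invariant `p`-subgroup
* `index_centralizer_le` : class size bound for the fixed points of a hyperplane
* `card_commutator_le` : the derived subgroup has bounded order
-/
import Cfsg.Agent.Lib.Coprime.Generation
import Cfsg.Agent.Lib.Coprime.Factorization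
import Cfsg.Agent.Lib.Coprime.Action
import Cfsg.Agent.Lib.Cores.Basic
import Mathlib.GroupTheory.Schreier

set_option autoImplicit false
set_option linter.style.haveILetI false

namespace Cfsg.Agent.FixDerived

open scoped commutatorElement Pointwise

section layers

variable {P : Type*} [Group P] [Finite P] {ι : Type*} [Fintype ι]

/-- Adding subgroups to a normal subgroup, measured by a smaller one. -/
theorem card_sup_biSup_mul_le (X : Subgroup P) (U D : ι → Subgroup P)
    (hU : ∀ a, D a ≤ U a) (hDX : ∀ a, D a ≤ X)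
    (hn : ∀ s : Finset ι, (X ⊔ ⨆ a ∈ s, U a).Normal) (s : Finset ι) :
    Nat.card (X ⊔ ⨆ a ∈ s, U a : Subgroup P) * ∏ a ∈ s, Nat.card (D a) ≤
      Nat.card X * ∏ a ∈ s, Nat.card (U a) := by
  classical
  induction s using Finset.induction with
  | empty => simp
  | insert b s hb ih =>
    set Y : Subgroup P := X ⊔ ⨆ a ∈ s, U a with hY
    haveI := hn s
    have he : X ⊔ (⨆ a ∈ insert b s, U a) = Y ⊔ U b := by
      rw [Finset.iSup_insert, hY, sup_assoc, sup_comm (U b)]
    have hDY : D b ≤ Y ⊓ U b := le_inf ((hDX b).trans le_sup_left) (hU b)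
    have h1 : Nat.card (Y ⊔ U b : Subgroup P) * Nat.card (D b) ≤ Nat.card Y * Nat.card (U b) := by
      rw [← Coprime.card_mul_inf Y (U b), ← Subgroup.normal_mul Y (U b)]
      exact Nat.mul_le_mul le_rfl (Subgroup.card_le_of_le hDY)
    rw [he, Finset.prod_insert hb, Finset.prod_insert hb]
    calc Nat.card (Y ⊔ U b : Subgroup P) * (Nat.card (D b) * ∏ a ∈ s, Nat.card (D a))
        = Nat.card (Y ⊔ U b : Subgroup P) * Nat.card (D b) * ∏ a ∈ s, Nat.card (D a) :=
          (mul_assoc _ _ _).symm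
      _ ≤ Nat.card Y * Nat.card (U b) * ∏ a ∈ s, Nat.card (D a) := Nat.mul_le_mul_right _ h1
      _ = Nat.card (U b) * (Nat.card Y * ∏ a ∈ s, Nat.card (D a)) := by ring
      _ ≤ Nat.card (U b) * (Nat.card X * ∏ a ∈ s, Nat.card (U a)) := Nat.mul_le_mul_left _ ih
      _ = Nat.card X * (Nat.card (U b) * ∏ a ∈ s, Nat.card (U a)) := by ring

/-- If every layer of the lower central series is generated modulo the next one by its intersections
with the members of a family, the derived subgroup is no larger than the product of their orders. -/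
theorem card_lcs_one_le (hP : Group.IsNilpotent P) (D : ι → Subgroup P)
    (h : ∀ i : ℕ, (⊤ : Subgroup P).lowerCentralSeries (i + 1) ≤
      (⊤ : Subgroup P).lowerCentralSeries (i + 2) ⊔
        ⨆ a, (⊤ : Subgroup P).lowerCentralSeries (i + 1) ⊓ D a) :
    Nat.card ((⊤ : Subgroup P).lowerCentralSeries 1) ≤ ∏ a, Nat.card (D a) := by
  classical
  set γ := (⊤ : Subgroup P).lowerCentralSeries with hγ
  set d : ℕ → ℕ := fun i => ∏ a, Nat.card (γ i ⊓ D a : Subgroup P) with hd
  obtain ⟨c, hc⟩ := Subgroup.nilpotent_iff_lowerCentralSeries.1 hP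
  have main : ∀ k i : ℕ, c ≤ i + k → Nat.card (γ (i + 1)) ≤ d (i + 1) := by
    intro k
    induction k with
    | zero =>
      intro i hi
      have h1 : γ (i + 1) = ⊥ := le_bot_iff.1
        (hc ▸ Subgroup.lowerCentralSeries_antitone (⊤ : Subgroup P) (show c ≤ i + 1 by omega))
      rw [h1, Subgroup.card_bot]
      exact Finset.one_le_prod' fun a _ => Nat.card_pos
    | succ k ih =>
      intro i hi
      have hnext := ih (i + 1) (by omega)
      have hle : γ (i + 2) ≤ γ (i + 1) := Subgroup.lowerCentralSeries_antitone _ (show i + 1 ≤ i + 2 by omega)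
      have hlayer := card_sup_biSup_mul_le (γ (i + 2)) (fun a => γ (i + 1) ⊓ D a)
        (fun a => γ (i + 2) ⊓ D a) (fun a => inf_le_inf hle le_rfl) (fun a => inf_le_left)
        (fun s => ⟨fun x hx g => ?_⟩) Finset.univ
      · have he : γ (i + 2) ⊔ (⨆ a ∈ (Finset.univ : Finset ι), γ (i + 1) ⊓ D a) = γ (i + 1) := by
          refine le_antisymm (sup_le hle (iSup₂_le fun a _ => inf_le_left)) ?_
          simpa using h i
        rw [he] at hlayer
        have hpos : 0 < d (i + 2) := Finset.prod_pos fun a _ => Nat.card_pos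
        refine Nat.le_of_mul_le_mul_right (hlayer.trans ?_) hpos
        rw [mul_comm (d (i + 1))]
        exact Nat.mul_le_mul_right _ hnext
      · have hx1 : x ∈ γ (i + 1) := (sup_le hle (iSup₂_le fun a _ => inf_le_left)) hx
        have h2 : ⁅x, g⁆ ∈ γ (i + 2) := Subgroup.commutator_mem_commutator hx1 (Subgroup.mem_top g)
        have h3 : g * x * g⁻¹ = ⁅x, g⁆⁻¹ * x := by rw [commutatorElement_def]; group
        rw [h3]
        exact mul_mem (inv_mem (Subgroup.mem_sup_left h2)) hx
  refine le_trans (main c 0 (by omega)) (Finset.prod_le_prod' fun a _ => ?_)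
  exact Subgroup.card_le_of_le inf_le_right

end layers

variable {Γ : Type*} [Group Γ] [Finite Γ]

/-- The hypotheses: `A` is elementary abelian of order `q ^ 3`, acts coprimely on `K`, and the derived
subgroups of the centralisers in `K` of its non-identity elements have order at most `m`. -/
structure Hyp (A K : Subgroup Γ) (q m : ℕ) : Prop where
  hAK : A ≤ Subgroup.normalizer (K : Set Γ)
  hcop : (Nat.card A).Coprime (Nat.card K)
  hq : q.Prime
  hcard : Nat.card A = q ^ 3
  hexp : ∀ a ∈ A, a ^ q = 1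
  hm : ∀ a ∈ A, a ≠ 1 →
    Nat.card (⁅K ⊓ Subgroup.centralizer {a}, K ⊓ Subgroup.centralizer {a}⁆ : Subgroup Γ) ≤ m

variable {A K : Subgroup Γ} [IsMulCommutative A] {q m : ℕ}

/-- `B` is a subgroup of index at most `q`. -/
def IsBig (A B : Subgroup Γ) (q : ℕ) : Prop := B ≤ A ∧ B.relIndex A ≤ q

theorem Hyp.isBig_of_cyclic (h : Hyp A K q m) {B : Subgroup Γ} (hBA : B ≤ A)
    (hg : ∃ g ∈ A, A ≤ B ⊔ Subgroup.zpowers g) : IsBig A B q := by
  obtain ⟨g, hgA, hle⟩ := hg
  exact ⟨hBA, Coprime.relIndex_le_of_cyclic_quotient h.hq h.hexp hBA hgA hle⟩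

theorem Hyp.card_le_big (h : Hyp A K q m) {B : Subgroup Γ} (hB : IsBig A B q) :
    q ^ 2 ≤ Nat.card B := by
  have h1 : Nat.card B * B.relIndex A = Nat.card A := by
    rw [← Nat.card_congr (Subgroup.subgroupOfEquivOfLe hB.1).toEquiv, Subgroup.relIndex,
      Subgroup.card_mul_index]
  have h2 : q ^ 2 * q ≤ Nat.card B * q := by
    rw [← pow_succ, ← h.hcard, ← h1]
    exact Nat.mul_le_mul_left _ hB.2
  exact Nat.le_of_mul_le_mul_right h2 h.hq.pos

theorem Hyp.not_cyclic (h : Hyp A K q m) {B : Subgroup Γ} (hB : IsBig A B q) : ¬ IsCyclic B := by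
  intro hc
  obtain ⟨g, hg⟩ := hc.exists_ofOrder_eq_natCard
  have h1 : Nat.card B ≤ q := by
    rw [← hg, ← Subgroup.orderOf_coe]
    exact Nat.le_of_dvd h.hq.pos (orderOf_dvd_of_pow_eq_one (h.hexp _ (hB.1 g.2)))
  have h2 := h.card_le_big hB
  have := h.hq.two_le
  nlinarith

theorem Hyp.exists_common (h : Hyp A K q m) {B B' : Subgroup Γ} (hB : IsBig A B q)
    (hB' : IsBig A B' q) : ∃ a ∈ A, a ≠ 1 ∧ a ∈ B ∧ a ∈ B' := by
  by_contra hno
  push Not at hno
  have hbot : B ⊓ B' = ⊥ := (Subgroup.eq_bot_iff_forall _).2 fun x hx => by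
    by_contra hx1
    exact hno x (hB.1 hx.1) hx1 hx.1 hx.2
  have h1 : Nat.card B * Nat.card B' ≤ Nat.card A := by
    have h2 := Coprime.card_mul_inf B B'
    rw [hbot, Subgroup.card_bot, mul_one] at h2
    rw [← h2]
    refine Nat.card_mono (Set.toFinite _) ?_
    rintro _ ⟨x, hx, y, hy, rfl⟩
    exact mul_mem (hB.1 hx) (hB'.1 hy)
  have h3 := Nat.mul_le_mul (h.card_le_big hB) (h.card_le_big hB')
  have h4 : q ^ 3 < q ^ 2 * q ^ 2 := by
    rw [← pow_add]; exact Nat.pow_lt_pow_right h.hq.one_lt (by norm_num)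
  rw [h.hcard] at h1
  omega

/-- `C_K(a)'`. -/
def derCent (K : Subgroup Γ) (a : Γ) : Subgroup Γ :=
  ⁅K ⊓ Subgroup.centralizer {a}, K ⊓ Subgroup.centralizer {a}⁆

theorem mem_cent_of_big {B : Subgroup Γ} {x a : Γ}
    (hx : x ∈ K ⊓ Subgroup.centralizer (B : Set Γ)) (ha : a ∈ B) :
    x ∈ K ⊓ Subgroup.centralizer {a} :=
  ⟨hx.1, Subgroup.mem_centralizer_singleton_iff.2 (hx.2 a ha).symm⟩

theorem Hyp.commutator_mem (h : Hyp A K q m) {B B' : Subgroup Γ} (hB : IsBig A B q)
    (hB' : IsBig A B' q) {x y : Γ} (hx : x ∈ K ⊓ Subgroup.centralizer (B : Set Γ))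
    (hy : y ∈ K ⊓ Subgroup.centralizer (B' : Set Γ)) :
    ∃ a ∈ A, a ≠ 1 ∧ ⁅x, y⁆ ∈ derCent K a := by
  obtain ⟨a, ha, ha1, haB, haB'⟩ := h.exists_common hB hB'
  exact ⟨a, ha, ha1,
    Subgroup.commutator_mem_commutator (mem_cent_of_big hx haB) (mem_cent_of_big hy haB')⟩

/-- The derived subgroup of an invariant `p`-subgroup is small. -/
theorem Hyp.card_commutator_pgroup (h : Hyp A K q m) {p : ℕ} [Fact p.Prime] {P : Subgroup Γ}
    (hPK : P ≤ K) (hP : IsPGroup p P) (hPA : A ≤ Subgroup.normalizer (P : Set Γ)) :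
    Nat.card (commutator P) ≤ m ^ (q ^ 3) := by
  classical
  haveI : Group.IsNilpotent P := hP.isNilpotent
  haveI := Fintype.ofFinite {a : A // a ≠ 1}
  have hm0 : 1 ≤ m := by
    haveI : Nontrivial A := Finite.one_lt_card_iff_nontrivial.1
      (h.hcard ▸ Nat.one_lt_pow (by norm_num) h.hq.one_lt)
    obtain ⟨⟨a, ha⟩, ha1⟩ := exists_ne (1 : A)
    exact le_trans Nat.card_pos (h.hm a ha fun e => ha1 (Subtype.ext e))
  let D : {a : A // a ≠ 1} → Subgroup P := fun a => (derCent K (a : Γ)).subgroupOf P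
  have hlayer : ∀ i : ℕ, (⊤ : Subgroup P).lowerCentralSeries (i + 1) ≤
      (⊤ : Subgroup P).lowerCentralSeries (i + 2) ⊔
        ⨆ a, (⊤ : Subgroup P).lowerCentralSeries (i + 1) ⊓ D a := by
    intro i
    set γ := (⊤ : Subgroup P).lowerCentralSeries with hγ
    set W : Subgroup P := γ (i + 2) ⊔ ⨆ a, γ (i + 1) ⊓ D a with hW
    have hWle : W ≤ γ (i + 1) :=
      sup_le (Subgroup.lowerCentralSeries_antitone _ (show i + 1 ≤ i + 2 by omega)) (iSup_le fun a => inf_le_left)
    haveI : W.Normal := ⟨fun x hx g => by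
      have h2 : ⁅x, g⁆ ∈ γ (i + 2) :=
        Subgroup.commutator_mem_commutator (hWle hx) (Subgroup.mem_top g)
      have h3 : g * x * g⁻¹ = ⁅x, g⁆⁻¹ * x := by rw [commutatorElement_def]; group
      rw [h3]
      exact mul_mem (inv_mem (Subgroup.mem_sup_left h2)) hx⟩
    set Zc : Subgroup P := (Subgroup.center (P ⧸ W)).comap (QuotientGroup.mk' W) with hZc
    suffices hsuff : γ i ≤ Zc by
      show ⁅γ i, (⊤ : Subgroup P)⁆ ≤ W
      rw [Subgroup.commutator_le]
      intro u hu v _
      rw [← QuotientGroup.eq_one_iff, ← QuotientGroup.mk'_apply, map_commutatorElement,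
        commutatorElement_eq_one_iff_mul_comm]
      exact (Subgroup.mem_center_iff.1 (hsuff hu) _).symm
    set R := (γ i).map P.subtype with hR
    have hRP : R ≤ P := Subgroup.map_subtype_le _
    have hgen := Coprime.le_of_cyclic_quotient (A := A) (K := R) (W := Zc.map P.subtype)
      (hPA.trans (Cores.normalizer_le_normalizer_map (H := P) (γ i)))
      (h.hcop.coprime_dvd_right (Subgroup.card_dvd_of_le (hRP.trans hPK)))
      (fun B hBA hcyc => ?_)
    · intro u hu
      obtain ⟨z, hz, hze⟩ := hgen ⟨u, hu, rfl⟩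
      exact P.subtype_injective hze ▸ hz
    rintro _ ⟨⟨u, hu, rfl⟩, huB⟩
    refine ⟨u, Subgroup.mem_comap.2 (Subgroup.mem_center_iff.2 fun v' => ?_), rfl⟩
    obtain ⟨v, rfl⟩ := QuotientGroup.mk'_surjective W v'
    set Cu : Subgroup P :=
      (Subgroup.centralizer {(u : P ⧸ W)}).comap (QuotientGroup.mk' W) with hCu
    suffices hv : v ∈ Cu from (Subgroup.mem_centralizer_singleton_iff.1 hv)
    have hgen' := Coprime.le_of_cyclic_quotient (A := A) (K := P) (W := Cu.map P.subtype) hPA
      (h.hcop.coprime_dvd_right (Subgroup.card_dvd_of_le hPK)) (fun B' hB'A hcyc' => ?_)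
    · obtain ⟨z, hz, hze⟩ := hgen' v.2
      exact P.subtype_injective hze ▸ hz
    rintro y ⟨hyP, hyB⟩
    refine ⟨⟨y, hyP⟩, ?_, rfl⟩
    obtain ⟨a, ha, ha1, hmem⟩ := h.commutator_mem (h.isBig_of_cyclic hBA hcyc)
      (h.isBig_of_cyclic hB'A hcyc') (x := (u : Γ)) ⟨hPK u.2, huB⟩ ⟨hPK hyP, hyB⟩
    have hw : ⁅u, (⟨y, hyP⟩ : P)⁆ ∈ W := Subgroup.mem_sup_right (Subgroup.mem_iSup_of_mem
      (⟨⟨a, ha⟩, fun e => ha1 (congrArg Subtype.val e)⟩ : {a : A // a ≠ 1})
      ⟨Subgroup.commutator_mem_commutator hu (Subgroup.mem_top _), hmem⟩)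
    show QuotientGroup.mk' W (⟨y, hyP⟩ : P) ∈ Subgroup.centralizer {(u : P ⧸ W)}
    rw [Subgroup.mem_centralizer_singleton_iff]
    rw [← QuotientGroup.eq_one_iff, ← QuotientGroup.mk'_apply, map_commutatorElement,
      commutatorElement_eq_one_iff_mul_comm] at hw
    exact hw.symm
  have h1 := card_lcs_one_le inferInstance D hlayer
  rw [Subgroup.top_lowerCentralSeries_one] at h1
  refine h1.trans ?_
  calc ∏ a, Nat.card (D a) ≤ ∏ _a : {a : A // a ≠ 1}, m := Finset.prod_le_prod' fun a _ => by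
        refine le_trans ?_ (h.hm (a : Γ) a.1.2 fun e => a.2 (Subtype.ext e))
        exact Nat.card_le_card_of_injective (fun z => (⟨((z : P) : Γ), z.2⟩ : derCent K (a : Γ)))
          fun z w e => Subtype.ext (Subtype.ext (congrArg (fun t : derCent K (a : Γ) => (t : Γ)) e))
    _ = m ^ Fintype.card {a : A // a ≠ 1} := by rw [Finset.prod_const, Finset.card_univ]
    _ ≤ m ^ (q ^ 3) := Nat.pow_le_pow_right hm0 (by
        rw [← h.hcard, ← Nat.card_eq_fintype_card]
        exact Nat.card_le_card_of_injective _ Subtype.val_injective)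

/-- The index of `C_P(x)`, for `x` fixed by a hyperplane. -/
theorem Hyp.relIndex_centralizer_le (h : Hyp A K q m) {p : ℕ} [Fact p.Prime] {P : Subgroup Γ}
    (hPK : P ≤ K) (hP : IsPGroup p P) (hPA : A ≤ Subgroup.normalizer (P : Set Γ))
    {B : Subgroup Γ} (hB : IsBig A B q) {x : Γ} (hx : x ∈ K ⊓ Subgroup.centralizer (B : Set Γ)) :
    (Subgroup.centralizer {x}).relIndex P ≤ m ^ (q ^ 3) * m ^ (q ^ 3) ∧
      (m < p → P ≤ Subgroup.centralizer {x}) := by
  classical
  haveI := Fintype.ofFinite {b : B // b ≠ 1}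
  haveI : IsMulCommutative B :=
    ⟨⟨fun a b => Subtype.ext (setLike_mul_comm (hB.1 a.2) (hB.1 b.2))⟩⟩
  -- the small index in each fixed point group
  have hsmall : ∀ b ∈ B, b ≠ 1 → (Subgroup.centralizer {x}).relIndex (P ⊓ Subgroup.centralizer {b}) ≤ m := by
    intro b hb hb1
    refine le_trans ?_ (h.hm b (hB.1 hb) hb1)
    set U := P ⊓ Subgroup.centralizer {b} with hU
    refine Nat.card_le_card_of_injective
      (Quotient.lift (fun u : U => (⟨⁅(u : Γ), x⁆, Subgroup.commutator_mem_commutator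
        ⟨hPK u.2.1, u.2.2⟩ (mem_cent_of_big hx hb)⟩ : derCent K b)) fun u v huv => ?_) ?_
    · replace huv := QuotientGroup.leftRel_apply.1 huv
      rw [Subgroup.mem_subgroupOf, Subgroup.mem_centralizer_singleton_iff] at huv
      refine Subtype.ext ?_
      show ⁅(u : Γ), x⁆ = ⁅(v : Γ), x⁆
      have hv : (v : Γ) = u * ((u⁻¹ * v : U) : Γ) := by simp
      rw [hv, commutatorElement_def, commutatorElement_def, mul_assoc _ ((u⁻¹ * v : U) : Γ) x, huv]
      group
    · intro a
      induction a using Quotient.inductionOn with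
      | h u => ?_
      intro c
      induction c using Quotient.inductionOn with
      | h v => ?_
      intro huv
      refine Quotient.sound (QuotientGroup.leftRel_apply.2 ?_)
      rw [Subgroup.mem_subgroupOf, Subgroup.mem_centralizer_singleton_iff]
      have h1 : ⁅(u : Γ), x⁆ = ⁅(v : Γ), x⁆ := congrArg Subtype.val huv
      rw [commutatorElement_def, commutatorElement_def] at h1
      have h2 : (u : Γ) * x * (u : Γ)⁻¹ = v * x * (v : Γ)⁻¹ := mul_right_cancel h1
      simp only [Subgroup.coe_mul, InvMemClass.coe_inv]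
      calc (u : Γ)⁻¹ * v * x = (u : Γ)⁻¹ * (v * x * (v : Γ)⁻¹) * v := by group
        _ = x * ((u : Γ)⁻¹ * v) := by rw [← h2]; group
  have hBP : B ≤ Subgroup.normalizer (P : Set Γ) := hB.1.trans hPA
  have hBcop : (Nat.card B).Coprime (Nat.card P) :=
    (h.hcop.coprime_dvd_left (Subgroup.card_dvd_of_le hB.1)).coprime_dvd_right
      (Subgroup.card_dvd_of_le hPK)
  refine ⟨?_, fun hmp => Coprime.le_of_noncyclic (h.not_cyclic hB) hBP hBcop fun b hb hb1 => ?_⟩
  swap
  · have h1 := hsmall b hb hb1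
    have hU : IsPGroup p (P ⊓ Subgroup.centralizer {b} : Subgroup Γ) := hP.to_le inf_le_left
    obtain ⟨n, hn⟩ := IsPGroup.iff_card.1 hU
    obtain ⟨k, -, hk⟩ := (Nat.dvd_prime_pow (Fact.out : p.Prime)).1
      (hn ▸ Subgroup.relIndex_dvd_card (Subgroup.centralizer {x}) _)
    rcases k with _ | k
    · exact Subgroup.relIndex_eq_one.1 (by rw [hk, pow_zero])
    · exfalso
      have : p ≤ p ^ (k + 1) := Nat.le_self_pow (by omega) p
      omega
  -- the general bound
  set T : Subgroup P := commutator P ⊔ (Subgroup.centralizer {x}).subgroupOf P with hT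
  haveI : T.Normal := Subgroup.Normal.of_commutator_le (G := P) le_sup_left
  let U : {b : B // b ≠ 1} → Subgroup (P ⧸ T) := fun b =>
    ((P ⊓ Subgroup.centralizer {(b : Γ)}).subgroupOf P).map (QuotientGroup.mk' T)
  haveI hcomm : ∀ s : Finset {b : B // b ≠ 1}, (⊥ ⊔ ⨆ b ∈ s, U b : Subgroup (P ⧸ T)).Normal :=
    fun s => ⟨fun z hz g => by
      obtain ⟨g', rfl⟩ := QuotientGroup.mk'_surjective T g
      obtain ⟨z', rfl⟩ := QuotientGroup.mk'_surjective T z
      have : QuotientGroup.mk' T ⁅g', z'⁆ = 1 :=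
        (QuotientGroup.eq_one_iff _).2 (Subgroup.mem_sup_left
          (Subgroup.commutator_mem_commutator (Subgroup.mem_top _) (Subgroup.mem_top _)))
      rw [map_commutatorElement, commutatorElement_eq_one_iff_mul_comm] at this
      rwa [this, mul_inv_cancel_right]⟩
  have hUc : ∀ b, Nat.card (U b) ≤ m := fun b => by
    refine le_trans ?_ (hsmall (b : Γ) b.1.2 fun e => b.2 (Subtype.ext e))
    set U' := (P ⊓ Subgroup.centralizer {(b : Γ)}).subgroupOf P
    show Nat.card (U'.map (QuotientGroup.mk' T)) ≤ _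
    rw [← Subgroup.relIndex_ker, QuotientGroup.ker_mk']
    have h1 : ((Subgroup.centralizer {x}).subgroupOf P).relIndex U' =
        (Subgroup.centralizer {x}).relIndex (P ⊓ Subgroup.centralizer {(b : Γ)}) :=
      Subgroup.relIndex_subgroupOf inf_le_left
    rw [← h1]
    exact Nat.le_of_dvd (Nat.pos_of_ne_zero Subgroup.index_ne_zero_of_finite)
      (Subgroup.relIndex_dvd_of_le_left _ le_sup_right)
  have htop : (⊥ ⊔ ⨆ b ∈ (Finset.univ : Finset {b : B // b ≠ 1}), U b : Subgroup (P ⧸ T)) = ⊤ := by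
    simp only [Finset.mem_univ, iSup_pos, bot_sup_eq]
    set R := (⨆ b, U b).comap (QuotientGroup.mk' T)
    have hPR : P ≤ R.map P.subtype := Coprime.le_of_noncyclic (h.not_cyclic hB) hBP hBcop
      fun b hb hb1 y hy => ⟨⟨y, hy.1⟩, Subgroup.mem_iSup_of_mem
        (⟨⟨b, hb⟩, fun e => hb1 (congrArg Subtype.val e)⟩ : {b : B // b ≠ 1})
        ⟨⟨y, hy.1⟩, hy, rfl⟩, rfl⟩
    refine eq_top_iff.2 fun z _ => ?_
    obtain ⟨w, rfl⟩ := QuotientGroup.mk'_surjective T z
    obtain ⟨w', hw', he⟩ := hPR w.2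
    exact P.subtype_injective he ▸ hw'
  have hB3 : Fintype.card {b : B // b ≠ 1} ≤ q ^ 3 := by
    rw [← h.hcard, ← Nat.card_eq_fintype_card]
    refine le_trans (Nat.card_le_card_of_injective _ Subtype.val_injective) ?_
    exact Subgroup.card_le_of_le hB.1
  have hm0 : 1 ≤ m := by
    haveI : Nontrivial B := Finite.one_lt_card_iff_nontrivial.1
      (lt_of_lt_of_le (Nat.one_lt_pow (by norm_num) h.hq.one_lt) (h.card_le_big hB))
    obtain ⟨⟨b, hb⟩, hb1⟩ := exists_ne (1 : B)
    exact le_trans Nat.card_pos (h.hm b (hB.1 hb) fun e => hb1 (Subtype.ext e))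
  have hTi : T.index ≤ m ^ (q ^ 3) := by
    have h1 := card_sup_biSup_mul_le ⊥ U (fun _ => ⊥) (fun _ => bot_le) (fun _ => bot_le) hcomm
      Finset.univ
    rw [htop] at h1
    simp only [Subgroup.card_bot, Finset.prod_const_one, mul_one, one_mul, Subgroup.card_top] at h1
    rw [Subgroup.index_eq_card]
    refine h1.trans (le_trans (Finset.prod_le_prod' fun b _ => hUc b) ?_)
    rw [Finset.prod_const, Finset.card_univ]
    exact Nat.pow_le_pow_right hm0 hB3
  have hrel : ((Subgroup.centralizer {x}).subgroupOf P).relIndex T ≤ Nat.card (commutator P) := by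
    set C := (Subgroup.centralizer {x}).subgroupOf P
    have h1 := Coprime.card_mul_inf (commutator P) C
    rw [← Subgroup.normal_mul (commutator P) C] at h1
    have h2 : C.relIndex T * Nat.card C = Nat.card T := by
      rw [mul_comm, ← Nat.card_congr (Subgroup.subgroupOfEquivOfLe (le_sup_right : C ≤ T)).toEquiv,
        Subgroup.relIndex, Subgroup.card_mul_index]
    refine Nat.le_of_mul_le_mul_right ?_ (Nat.card_pos (α := C))
    rw [h2, ← h1, SetLike.coe_sort_coe]
    exact Nat.le_mul_of_pos_right _ Nat.card_pos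
  show ((Subgroup.centralizer {x}).subgroupOf P).index ≤ _
  rw [← Subgroup.relIndex_mul_index (le_sup_right : _ ≤ T)]
  exact Nat.mul_le_mul (hrel.trans (h.card_commutator_pgroup hPK hP hPA)) hTi

end Cfsg.Agent.FixDerived
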