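/-
The derived subgroup bound for rank three coprime action (helper8).

* `schur_bound` : a finite group generated by few elements of small order with small classes
* `Hyp.index_centralizer_le` : class size bound
* `Hyp.card_commutator_le` : the derived subgroup has bounded order
-/
import Cfsg.Agent.Lib.FixDerived.Basic
import Cfsg.Agent.Lib.ClassIndex.Basic

set_option autoImplicit false
set_option linter.style.haveILetI false

namespace Cfsg.Agent.FixDerived

open scoped commutatorElement Pointwise

/-- A monotone form of the Schur bound. -/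
def schurBound (c : ℕ) : ℕ := (Finset.range (c + 1)).sup Subgroup.cardCommutatorBound

/-- A bound for the order of a group generated by `t` elements of order at most `m`, each with at most
`n` conjugates. -/
def genBound (t n m : ℕ) : ℕ := schurBound (n ^ t * n ^ t) * m ^ t

theorem card_le_pow_of_comm {Q : Type*} [Group Q] [Finite Q] (hQ : ∀ a b : Q, a * b = b * a)
    (T : Finset Q) (m : ℕ) (ho : ∀ w ∈ T, orderOf w ≤ m) :
    Nat.card (Subgroup.closure (T : Set Q)) ≤ m ^ T.card := by
  classical
  induction T using Finset.induction with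
  | empty => simp
  | insert b s hb ih =>
    have h1 := ih fun w hw => ho w (Finset.mem_insert_of_mem hw)
    haveI : (Subgroup.closure (s : Set Q)).Normal :=
      ⟨fun x hx g => by rwa [hQ g x, mul_inv_cancel_right]⟩
    have he : Subgroup.closure ((insert b s : Finset Q) : Set Q) =
        Subgroup.closure (s : Set Q) ⊔ Subgroup.zpowers b := by
      rw [Finset.coe_insert, Set.insert_eq, Subgroup.closure_union, Subgroup.zpowers_eq_closure,
        sup_comm]
    have h2 := Coprime.card_mul_inf (Subgroup.closure (s : Set Q)) (Subgroup.zpowers b)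
    rw [← Subgroup.normal_mul, ← he, Nat.card_zpowers, SetLike.coe_sort_coe] at h2
    calc Nat.card (Subgroup.closure ((insert b s : Finset Q) : Set Q))
        ≤ Nat.card (Subgroup.closure (s : Set Q)) * orderOf b := by
          rw [← h2]; exact Nat.le_mul_of_pos_right _ Nat.card_pos
      _ ≤ m ^ s.card * m := Nat.mul_le_mul h1 (ho b (Finset.mem_insert_self b s))
      _ = m ^ (insert b s).card := by rw [Finset.card_insert_of_notMem hb, pow_succ]

/-- The centre index and hence the order of the derived subgroup of a group generated by few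
elements with small classes. -/
theorem schur_bound {H : Type*} [Group H] [Finite H] (T : Finset H)
    (hT : Subgroup.closure (T : Set H) = ⊤) {t n m : ℕ} (ht : T.card ≤ t) (hn0 : 1 ≤ n) (hm0 : 1 ≤ m)
    (ho : ∀ w ∈ T, orderOf w ≤ m) (hn : ∀ w ∈ T, (Subgroup.centralizer {w}).index ≤ n) :
    Nat.card H ≤ genBound t n m := by
  classical
  have hC : (⨅ w : T, Subgroup.centralizer {(w : H)}) ≤ Subgroup.center H := by
    intro x hx
    have h1 : (⊤ : Subgroup H) ≤ Subgroup.centralizer {x} := by
      rw [← hT, Subgroup.closure_le]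
      intro w hw
      exact Subgroup.mem_centralizer_singleton_iff.2
        (Subgroup.mem_centralizer_singleton_iff.1 (Subgroup.mem_iInf.1 hx ⟨w, hw⟩)).symm
    exact Subgroup.mem_center_iff.2 fun g =>
      (Subgroup.mem_centralizer_singleton_iff.1 (h1 (Subgroup.mem_top g)))
  set Z := Subgroup.center H
  have hZ : Z.index ≤ n ^ t := by
    refine le_trans (Nat.le_of_dvd (Nat.pos_of_ne_zero Subgroup.index_ne_zero_of_finite)
      (Subgroup.index_dvd_of_le hC)) (le_trans (Subgroup.index_iInf_le _) ?_)
    refine le_trans (Finset.prod_le_prod' fun w _ => hn _ w.2) ?_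
    rw [Finset.prod_const, Finset.card_univ, Fintype.card_coe]
    exact Nat.pow_le_pow_right hn0 ht
  have hcs : Nat.card (commutatorSet H) ≤ n ^ t * n ^ t := by
    refine le_trans ?_ (Nat.mul_le_mul hZ hZ)
    rw [Subgroup.index_eq_card, ← Nat.card_prod]
    refine Nat.card_le_card_of_surjective
      (fun z : (H ⧸ Z) × (H ⧸ Z) => (⟨⁅z.1.out, z.2.out⁆, z.1.out, z.2.out, rfl⟩ : commutatorSet H))
      fun w => ?_
    obtain ⟨_, a, b, rfl⟩ := w
    refine ⟨(a, b), Subtype.ext ?_⟩
    obtain ⟨z₁, h1⟩ := QuotientGroup.mk_out_eq_mul Z a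
    obtain ⟨z₂, h2⟩ := QuotientGroup.mk_out_eq_mul Z b
    show ⁅(a : H ⧸ Z).out, (b : H ⧸ Z).out⁆ = ⁅a, b⁆
    rw [h1, h2, commutatorElement_def, commutatorElement_def]
    have c1 := Subgroup.mem_center_iff.1 z₁.2
    have c2 := Subgroup.mem_center_iff.1 z₂.2
    calc a * z₁ * (b * z₂) * (a * z₁)⁻¹ * (b * z₂)⁻¹
        = a * ((z₁ : H) * (b * z₂)) * (z₁ : H)⁻¹ * a⁻¹ * (z₂ : H)⁻¹ * b⁻¹ := by group
      _ = a * b * ((z₂ : H) * a⁻¹) * (z₂ : H)⁻¹ * b⁻¹ := by rw [← c1 (b * z₂)]; group
      _ = a * b * a⁻¹ * b⁻¹ := by rw [← c2 a⁻¹]; group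
  have hder : Nat.card (commutator H) ≤ schurBound (n ^ t * n ^ t) :=
    le_trans (Subgroup.card_commutator_le_of_finite_commutatorSet H)
      (Finset.le_sup (f := Subgroup.cardCommutatorBound) (Finset.mem_range_succ_iff.2 hcs))
  have hab : Nat.card (H ⧸ commutator H) ≤ m ^ t := by
    have h1 := card_le_pow_of_comm (Q := H ⧸ commutator H) (fun a b => by
      obtain ⟨x, rfl⟩ := QuotientGroup.mk'_surjective _ a
      obtain ⟨y, rfl⟩ := QuotientGroup.mk'_surjective _ b
      rw [← commutatorElement_eq_one_iff_mul_comm, ← map_commutatorElement, QuotientGroup.mk'_apply,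
        QuotientGroup.eq_one_iff]
      exact Subgroup.commutator_mem_commutator (Subgroup.mem_top _) (Subgroup.mem_top _))
      (T.image (QuotientGroup.mk' (commutator H))) m (fun w hw => by
        obtain ⟨u, hu, rfl⟩ := Finset.mem_image.1 hw
        exact le_trans (Nat.le_of_dvd (orderOf_pos u) (orderOf_map_dvd _ u)) (ho u hu))
    rw [Finset.coe_image, ← MonoidHom.map_closure, hT,
      Subgroup.map_top_of_surjective _ (QuotientGroup.mk'_surjective _), Subgroup.card_top] at h1
    exact h1.trans (Nat.pow_le_pow_right hm0 (Finset.card_image_le.trans ht))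
  rw [Subgroup.card_eq_card_quotient_mul_card_subgroup (commutator H), genBound, mul_comm]
  exact Nat.mul_le_mul hder hab

/-- The class size bound of a fixed point of a hyperplane. -/
def classBound (q m : ℕ) : ℕ := (m ^ (q ^ 3) * m ^ (q ^ 3)) ^ (m + 1)

/-- The final bound. -/
def derBound (q m : ℕ) : ℕ :=
  genBound (q ^ 3 * m * (classBound q m * classBound q m)) (classBound q m * classBound q m) m

variable {Γ : Type*} [Group Γ] [Finite Γ] {A K : Subgroup Γ} [IsMulCommutative A] {q m : ℕ}

theorem Hyp.one_le (h : Hyp A K q m) : 1 ≤ m := by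
  haveI : Nontrivial A := Finite.one_lt_card_iff_nontrivial.1
    (h.hcard ▸ Nat.one_lt_pow (by norm_num) h.hq.one_lt)
  obtain ⟨⟨a, ha⟩, ha1⟩ := exists_ne (1 : A)
  exact le_trans Nat.card_pos (h.hm a ha fun e => ha1 (Subtype.ext e))

theorem Hyp.index_centralizer_le (h : Hyp A K q m) {B : Subgroup Γ} (hB : IsBig A B q) {x : Γ}
    (hx : x ∈ K ⊓ Subgroup.centralizer (B : Set Γ)) :
    (Subgroup.centralizer {x}).relIndex K ≤ classBound q m := by
  classical
  set C := Subgroup.centralizer ({x} : Set Γ)
  set M := m ^ (q ^ 3) * m ^ (q ^ 3) with hM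
  have hM1 : 1 ≤ M :=
    Nat.one_le_iff_ne_zero.2 (mul_ne_zero (pow_ne_zero _ (by have := h.one_le; omega))
      (pow_ne_zero _ (by have := h.one_le; omega)))
  set i := C.relIndex K with hi
  have hi0 : i ≠ 0 := Subgroup.index_ne_zero_of_finite (H := C.subgroupOf K)
  have hprime : ∀ p : ℕ, p.Prime → p ^ i.factorization p ≤ M ∧ (m < p → i.factorization p = 0) := by
    intro p hp
    haveI : Fact p.Prime := ⟨hp⟩
    obtain ⟨S, hS⟩ := Coprime.exists_invariant_sylow h.hAK h.hcop (Or.inl (Group.isSolvable_of_comm fun a b => Subtype.ext (setLike_mul_comm a.2 b.2))) p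
    set P := (S : Subgroup K).map K.subtype with hP
    have hPK : P ≤ K := Subgroup.map_subtype_le _
    have hPp : IsPGroup p P := S.2.map _
    obtain ⟨hb1, hb2⟩ := h.relIndex_centralizer_le hPK hPp hS hB hx
    have hcP : Nat.card P = p ^ (Nat.card K).factorization p := by
      rw [hP, Subgroup.card_map_of_injective K.subtype_injective, S.card_eq_multiplicity]
    obtain ⟨c, hc⟩ := IsPGroup.iff_card.1 (hPp.to_le (inf_le_right : C ⊓ P ≤ P))
    have hcK : c ≤ (Nat.card (C ⊓ K : Subgroup Γ)).factorization p :=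
      (hp.pow_dvd_iff_le_factorization Nat.card_pos.ne').1
        (hc ▸ Subgroup.card_dvd_of_le (inf_le_inf le_rfl hPK))
    have hKeq : i * Nat.card (C ⊓ K : Subgroup Γ) = Nat.card K := by
      rw [mul_comm, hi, ← Subgroup.inf_relIndex_right,
        ← Nat.card_congr (Subgroup.subgroupOfEquivOfLe (inf_le_right : C ⊓ K ≤ K)).toEquiv,
        Subgroup.relIndex, Subgroup.card_mul_index]
    have hPeq : C.relIndex P * Nat.card (C ⊓ P : Subgroup Γ) = Nat.card P := by
      rw [mul_comm, ← Subgroup.inf_relIndex_right,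
        ← Nat.card_congr (Subgroup.subgroupOfEquivOfLe (inf_le_right : C ⊓ P ≤ P)).toEquiv,
        Subgroup.relIndex, Subgroup.card_mul_index]
    have hv : (Nat.card K).factorization p =
        i.factorization p + (Nat.card (C ⊓ K : Subgroup Γ)).factorization p := by
      rw [← hKeq, Nat.factorization_mul hi0 Nat.card_pos.ne', Finsupp.add_apply]
    refine ⟨?_, fun hmp => ?_⟩
    · refine le_trans ?_ hb1
      refine Nat.le_of_mul_le_mul_right ?_ (Nat.card_pos (α := (C ⊓ P : Subgroup Γ)))
      rw [hPeq, hc, hcP, ← pow_add]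
      exact Nat.pow_le_pow_right hp.pos (by omega)
    · have he : C ⊓ P = P := inf_eq_right.2 (hb2 hmp)
      rw [he, hcP] at hc
      have := Nat.pow_right_injective hp.two_le hc
      omega
  calc i = i.factorization.prod fun p e => p ^ e := (Nat.prod_factorization_pow_eq_self hi0).symm
    _ ≤ ∏ _p ∈ i.factorization.support, M := Finset.prod_le_prod' fun p hp =>
        (hprime p (Nat.prime_of_mem_primeFactors hp)).1
    _ = M ^ i.factorization.support.card := Finset.prod_const M
    _ ≤ classBound q m := by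
        refine Nat.pow_le_pow_right hM1 ?_
        rw [← Finset.card_range (m + 1)]
        refine Finset.card_le_card fun p hp => Finset.mem_range_succ_iff.2 (not_lt.1 fun hlt => ?_)
        exact Finsupp.mem_support_iff.1 hp ((hprime p (Nat.prime_of_mem_primeFactors hp)).2 hlt)

/-- The derived subgroup of `K` has bounded order. -/
theorem Hyp.card_commutator_le (h : Hyp A K q m) : Nat.card (commutator K) ≤ derBound q m := by
  classical
  set N := classBound q m with hN
  set ι := {a : A // a ≠ 1}
  haveI := Fintype.ofFinite ι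
  haveI := Fintype.ofFinite K
  -- commutators of the generators
  set S0 : Set K := {w | ∃ (B B' : Subgroup Γ), IsBig A B q ∧ IsBig A B' q ∧
    ∃ x y : K, (x : Γ) ∈ Subgroup.centralizer (B : Set Γ) ∧
      (y : Γ) ∈ Subgroup.centralizer (B' : Set Γ) ∧ ⁅x, y⁆ = w} with hS0
  have hmem : ∀ w ∈ S0, ∃ a : ι, (w : Γ) ∈ derCent K (a : Γ) := by
    rintro w ⟨B, B', hB, hB', x, y, hx, hy, rfl⟩
    obtain ⟨a, ha, ha1, hmem⟩ := h.commutator_mem hB hB' (x := (x : Γ)) (y := (y : Γ))
      ⟨x.2, hx⟩ ⟨y.2, hy⟩
    exact ⟨⟨⟨a, ha⟩, fun e => ha1 (congrArg Subtype.val e)⟩, hmem⟩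
  have hcentre : ∀ w ∈ S0, (Subgroup.centralizer {w}).index ≤ N * N := by
    rintro w ⟨B, B', hB, hB', x, y, hx, hy, rfl⟩
    have h1 := h.index_centralizer_le hB (x := (x : Γ)) ⟨x.2, hx⟩
    have h2 := h.index_centralizer_le hB' (x := (y : Γ)) ⟨y.2, hy⟩
    refine le_trans (Nat.le_of_dvd (Nat.pos_of_ne_zero Subgroup.index_ne_zero_of_finite)
      (Subgroup.index_dvd_of_le (?_ : (Subgroup.centralizer {(x : Γ)} ⊓
        Subgroup.centralizer {(y : Γ)}).subgroupOf K ≤ _))) ?_
    · rintro k ⟨hk1, hk2⟩
      replace hk1 := Subgroup.mem_centralizer_singleton_iff.1 hk1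
      replace hk2 := Subgroup.mem_centralizer_singleton_iff.1 hk2
      rw [Subgroup.mem_centralizer_singleton_iff]
      refine Subtype.ext ?_
      have c1 : Commute (k : Γ) (x : Γ) := hk1
      have c2 : Commute (k : Γ) (y : Γ) := hk2
      have c3 : Commute (k : Γ) ((x : Γ) * y * (x : Γ)⁻¹ * (y : Γ)⁻¹) :=
        ((c1.mul_right c2).mul_right c1.inv_right).mul_right c2.inv_right
      show (k : Γ) * ((⁅x, y⁆ : K) : Γ) = ((⁅x, y⁆ : K) : Γ) * k
      exact c3.eq
    · exact le_trans (Subgroup.relIndex_inf_le (L := K)) (Nat.mul_le_mul h1 h2)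
  have hord : ∀ w ∈ S0, orderOf w ≤ m := by
    intro w hw
    obtain ⟨a, ha⟩ := hmem w hw
    refine le_trans ?_ (h.hm (a : Γ) a.1.2 fun e => a.2 (Subtype.ext e))
    rw [← Subgroup.orderOf_coe]
    exact Nat.le_of_dvd Nat.card_pos (Subgroup.orderOf_dvd_natCard _ ha)
  have hS0card : Nat.card S0 ≤ q ^ 3 * m := by
    have h1 : Nat.card S0 ≤ Nat.card (Σ a : ι, derCent K (a : Γ)) := by
      choose a ha using hmem
      refine Nat.card_le_card_of_injective
        (fun w : S0 => (⟨a w w.2, ⟨((w : K) : Γ), ha w w.2⟩⟩ : Σ a : ι, derCent K (a : Γ)))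
        fun v w e => Subtype.ext (Subtype.ext ?_)
      exact congrArg (fun z : Σ a : ι, derCent K (a : Γ) => (z.2 : Γ)) e
    refine h1.trans ?_
    rw [Nat.card_sigma]
    refine le_trans (Finset.sum_le_card_nsmul _ _ m fun a _ =>
      h.hm (a : Γ) a.1.2 fun e => a.2 (Subtype.ext e)) ?_
    rw [smul_eq_mul, Finset.card_univ]
    refine Nat.mul_le_mul_right m ?_
    rw [← h.hcard, ← Nat.card_eq_fintype_card]
    exact Nat.card_le_card_of_injective _ Subtype.val_injective
  -- the derived subgroup is generated by the conjugates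
  set T : Finset K := (Group.conjugatesOfSet S0).toFinset with hTdef
  have hconj : ∀ w : K, Nat.card (conjugatesOf w) = (Subgroup.centralizer {w}).index := fun w => by
    rw [← ClassIndex.natCard_carrier_eq_index]; rfl
  have hTcard : T.card ≤ q ^ 3 * m * (N * N) := by
    rw [hTdef, ← Set.ncard_eq_toFinset_card']
    have hS0f : S0.Finite := Set.toFinite _
    calc (Group.conjugatesOfSet S0).ncard = (⋃ w ∈ hS0f.toFinset, conjugatesOf w).ncard := by
          refine congrArg Set.ncard ?_
          ext z
          simp only [Group.conjugatesOfSet, Set.mem_iUnion, Set.Finite.mem_toFinset]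
      _ ≤ ∑ w ∈ hS0f.toFinset, (conjugatesOf w).ncard := Finset.set_ncard_biUnion_le _ _
      _ ≤ hS0f.toFinset.card * (N * N) := by
          refine le_trans (Finset.sum_le_card_nsmul _ _ (N * N) fun w hw => ?_) (le_of_eq (smul_eq_mul ..))
          rw [← Nat.card_coe_set_eq, hconj]
          exact hcentre w (hS0f.mem_toFinset.1 hw)
      _ ≤ q ^ 3 * m * (N * N) := by
          refine Nat.mul_le_mul_right _ (le_trans (le_of_eq ?_) hS0card)
          rw [Nat.card_coe_set_eq, Set.ncard_eq_toFinset_card _ hS0f]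
  have hclosure : Subgroup.closure (T : Set K) = commutator K := by
    rw [hTdef, Set.coe_toFinset]
    show Subgroup.normalClosure S0 = _
    refine le_antisymm (Subgroup.normalClosure_le_normal ?_) ?_
    · rintro w ⟨B, B', -, -, x, y, -, -, rfl⟩
      exact Subgroup.commutator_mem_commutator (Subgroup.mem_top _) (Subgroup.mem_top _)
    set W := Subgroup.normalClosure S0
    set Zc : Subgroup K := (Subgroup.center (K ⧸ W)).comap (QuotientGroup.mk' W)
    suffices hsuff : ∀ u : K, u ∈ Zc by
      rw [commutator_def, Subgroup.commutator_le]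
      intro u _ v _
      rw [← QuotientGroup.eq_one_iff, ← QuotientGroup.mk'_apply, map_commutatorElement,
        commutatorElement_eq_one_iff_mul_comm]
      exact (Subgroup.mem_center_iff.1 (hsuff u) _).symm
    have hgen := Coprime.le_of_cyclic_quotient (A := A) (K := K) (W := Zc.map K.subtype) h.hAK h.hcop
      (fun B hBA hcyc => ?_)
    · intro u
      obtain ⟨z, hz, hze⟩ := hgen u.2
      exact K.subtype_injective hze ▸ hz
    rintro u ⟨huK, huB⟩
    refine ⟨⟨u, huK⟩, Subgroup.mem_comap.2 (Subgroup.mem_center_iff.2 fun v' => ?_), rfl⟩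
    obtain ⟨v, rfl⟩ := QuotientGroup.mk'_surjective W v'
    set Cu : Subgroup K :=
      (Subgroup.centralizer {((⟨u, huK⟩ : K) : K ⧸ W)}).comap (QuotientGroup.mk' W)
    suffices hv : v ∈ Cu from (Subgroup.mem_centralizer_singleton_iff.1 hv)
    have hgen' := Coprime.le_of_cyclic_quotient (A := A) (K := K) (W := Cu.map K.subtype) h.hAK
      h.hcop (fun B' hB'A hcyc' => ?_)
    · obtain ⟨z, hz, hze⟩ := hgen' v.2
      exact K.subtype_injective hze ▸ hz
    rintro y ⟨hyK, hyB⟩
    refine ⟨⟨y, hyK⟩, ?_, rfl⟩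
    have hw : ⁅(⟨u, huK⟩ : K), (⟨y, hyK⟩ : K)⁆ ∈ W := Subgroup.subset_normalClosure
      ⟨B, B', h.isBig_of_cyclic hBA hcyc, h.isBig_of_cyclic hB'A hcyc', _, _, huB, hyB, rfl⟩
    show QuotientGroup.mk' W (⟨y, hyK⟩ : K) ∈
      Subgroup.centralizer {((⟨u, huK⟩ : K) : K ⧸ W)}
    rw [Subgroup.mem_centralizer_singleton_iff]
    rw [← QuotientGroup.eq_one_iff, ← QuotientGroup.mk'_apply, map_commutatorElement,
      commutatorElement_eq_one_iff_mul_comm] at hw
    exact hw.symm
  have hTprop : ∀ w ∈ T, orderOf w ≤ m ∧ (Subgroup.centralizer {w}).index ≤ N * N := by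
    intro w hw
    rw [hTdef, Set.mem_toFinset, Group.conjugatesOfSet, Set.mem_iUnion₂] at hw
    obtain ⟨u, hu, huw⟩ := hw
    have hcj : IsConj u w := huw
    refine ⟨?_, ?_⟩
    · obtain ⟨c, hc⟩ := isConj_iff.1 hcj
      rw [← hc, ← MulAut.conj_apply, MulEquiv.orderOf_eq]
      exact hord u hu
    · rw [← hconj, ← hcj.conjugatesOf_eq, hconj]
      exact hcentre u hu
  -- the bound inside the derived subgroup
  set H := commutator K with hH
  have hTH : ∀ w ∈ T, w ∈ H := fun w hw => hclosure ▸ Subgroup.subset_closure hw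
  let T' : Finset H := T.attach.image fun w : {x // x ∈ T} => (⟨w.1, hTH w.1 w.2⟩ : H)
  refine schur_bound T' ?_ ?_ ?_ h.one_le (fun w hw => ?_) (fun w hw => ?_)
  · apply Subgroup.map_injective H.subtype_injective
    rw [MonoidHom.map_closure, ← MonoidHom.range_eq_map, Subgroup.range_subtype]
    refine Eq.trans (congrArg Subgroup.closure ?_) hclosure
    ext w
    constructor
    · rintro ⟨z, hz, rfl⟩
      obtain ⟨u, -, rfl⟩ := Finset.mem_image.1 hz
      exact u.2
    · intro hw
      exact ⟨⟨w, hTH w hw⟩, Finset.mem_image.2 ⟨⟨w, hw⟩, Finset.mem_attach _ _, rfl⟩, rfl⟩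
  · exact Finset.card_image_le.trans (by rwa [Finset.card_attach])
  · exact Nat.one_le_iff_ne_zero.2 (mul_ne_zero
      (pow_ne_zero _ (mul_ne_zero (pow_ne_zero _ (by have := h.one_le; omega))
        (pow_ne_zero _ (by have := h.one_le; omega))))
      (pow_ne_zero _ (mul_ne_zero (pow_ne_zero _ (by have := h.one_le; omega))
        (pow_ne_zero _ (by have := h.one_le; omega)))))
  · obtain ⟨u, -, rfl⟩ := Finset.mem_image.1 hw
    rw [← Subgroup.orderOf_coe]
    exact (hTprop u.1 u.2).1
  · obtain ⟨u, -, rfl⟩ := Finset.mem_image.1 hw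
    refine le_trans (Nat.le_of_dvd (Nat.pos_of_ne_zero Subgroup.index_ne_zero_of_finite)
      (Subgroup.index_dvd_of_le (?_ : (Subgroup.centralizer {u.1}).subgroupOf H ≤ _)))
      (le_trans ?_ (hTprop u.1 u.2).2)
    · intro z hz
      rw [Subgroup.mem_subgroupOf, Subgroup.mem_centralizer_singleton_iff] at hz
      exact Subgroup.mem_centralizer_singleton_iff.2 (Subtype.ext hz)
    · show (Subgroup.centralizer {u.1}).relIndex H ≤ _
      exact le_trans (Nat.le_of_eq (Subgroup.inf_relIndex_right _ _).symm)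
        (by rw [Subgroup.inf_relIndex_right]; exact Nat.le_of_dvd
              (Nat.pos_of_ne_zero Subgroup.index_ne_zero_of_finite)
              (by
                haveI : H.Normal := inferInstance
                have h1 := Subgroup.relIndex_mul_index
                  (inf_le_left : Subgroup.centralizer {u.1} ⊓ H ≤ Subgroup.centralizer {u.1})
                have h2 := Subgroup.relIndex_mul_index
                  (inf_le_right : Subgroup.centralizer {u.1} ⊓ H ≤ H)
                rw [Subgroup.inf_relIndex_left] at h1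
                rw [Subgroup.inf_relIndex_right, ← h1] at h2
                obtain ⟨k, hk⟩ := Subgroup.relIndex_dvd_index_of_normal H
                  (Subgroup.centralizer {u.1})
                refine ⟨k, Nat.eq_of_mul_eq_mul_left (Nat.pos_of_ne_zero
                  (fun e => Subgroup.index_ne_zero_of_finite
                    (H := H.subgroupOf (Subgroup.centralizer {u.1})) e)) ?_⟩
                show H.relIndex _ * _ = H.relIndex _ * _
                rw [← h2, hk]
                ring))

end Cfsg.Agent.FixDerived
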